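import Cfsg.Agent.H583.DPi.Eng
import Cfsg.Agent.H149.Sp.CopCoMain

/-!
# S4247-NF2: `Co₂` (helper729)
-/

set_option autoImplicit false

namespace Cfsg.Agent.H729.NF

open Subgroup Cfsg.Agent.H583.DPi Cfsg.Agent.H537.Cop

universe u

theorem nf_of_cb {S : Type u} [Group S] [Finite S] {r s j a : ℕ} (h : CB r s j S) (ha : j + 1 ≤ a) : NF S s a r := by
  intro Q hQ y hy hc
  apply h y hy
  refine (pow_dvd_pow s ha).trans ?_
  rw [← hQ]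
  refine Subgroup.card_dvd_of_le ?_
  intro x hx
  rw [mem_centralizer_singleton_iff]
  exact hc x hx

theorem nf_co2 {S : Type u} [Group S] [Finite S] (h : Cfsg.Spor.IsoCo2 S) : NF S 3 6 5 ∧ NF S 5 3 7 := by
  obtain ⟨e⟩ := h
  exact ⟨nf_of_cb (Cfsg.Agent.H149.Sp.CopCo.co2_5_3.congr e) (by norm_num),
    nf_of_cb (Cfsg.Agent.H149.Sp.CopCo.co2_7_5.congr e) (by norm_num)⟩

theorem nf_co3 {S : Type u} [Group S] [Finite S] (h : Cfsg.Spor.IsoCo3 S) : NF S 3 2 5 ∧ NF S 5 1 7 := by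
  obtain ⟨e⟩ := h
  exact ⟨nf_of_cb (Cfsg.Agent.H149.Sp.CopCo.co3_5_3.congr e) (by norm_num),
    nf_of_cb (Cfsg.Agent.H149.Sp.CopCo.co3_7_5.congr e) (by norm_num)⟩

/-- part of S4247-NF1 -/
theorem nf_co1 {S : Type u} [Group S] [Finite S] (h : Cfsg.Spor.IsoCo1 S) : NF S 3 3 7 ∧ NF S 5 2 7 := by
  obtain ⟨e⟩ := h
  exact ⟨nf_of_cb (Cfsg.Agent.H149.Sp.CopCo.co1_7_3.congr e) (by norm_num),
    nf_of_cb (Cfsg.Agent.H149.Sp.CopCo.co1_7_5.congr e) (by norm_num)⟩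

end Cfsg.Agent.H729.NF
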